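import Mathlib

/-!
# Compositum of two fields over a common subfield, keeping transcendence degree
-/

set_option autoImplicit false
set_option maxHeartbeats 1000000
set_option linter.style.haveILetI false

universe u

open MvPolynomial TensorProduct

namespace Groth.Agent.TrdegPairLib

/-- A field generated by an algebraic extension of `k(t)` and a field `k₁` is algebraic over
`k₁(t)`. -/
theorem isAlgebraic_of_generated {k K k₁ B : Type u} [Field k] [Field K] [Field k₁] [Field B]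
    [Algebra k K] [Algebra k₁ B] (c : K →+* B) (d : k →+* k₁)
    (hcomm : c.comp (algebraMap k K) = (algebraMap k₁ B).comp d)
    (hgen : ∀ C : Subfield B, Set.range c ⊆ (C : Set B) → Set.range (algebraMap k₁ B) ⊆ (C : Set B) → C = ⊤)
    {σ : Type u} (t : σ → K) [Algebra.IsAlgebraic (Algebra.adjoin k (Set.range t)) K] :
    Algebra.IsAlgebraic (Algebra.adjoin k₁ (Set.range (c ∘ t))) B := by
  let R := Algebra.adjoin k₁ (Set.range (c ∘ t))
  have hmem : ∀ x ∈ Algebra.adjoin k (Set.range t), c x ∈ R := fun x hx => by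
    induction hx using Algebra.adjoin_induction with
    | mem y hy =>
      obtain ⟨i, rfl⟩ := hy
      exact Algebra.subset_adjoin ⟨i, rfl⟩
    | algebraMap r =>
      rw [show c (algebraMap k K r) = algebraMap k₁ B (d r) from RingHom.congr_fun hcomm r]
      exact R.algebraMap_mem _
    | add x y _ _ hx hy => rw [map_add]; exact R.add_mem hx hy
    | mul x y _ _ hx hy => rw [map_mul]; exact R.mul_mem hx hy
  let φ : Algebra.adjoin k (Set.range t) →+* R :=
    { toFun := fun x => ⟨c x.1, hmem x.1 x.2⟩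
      map_one' := Subtype.ext (map_one c)
      map_mul' := fun x y => Subtype.ext (map_mul c x.1 y.1)
      map_zero' := Subtype.ext (map_zero c)
      map_add' := fun x y => Subtype.ext (map_add c x.1 y.1) }
  have hφ : Function.Injective φ := fun x y h => Subtype.ext (c.injective (congrArg Subtype.val h))
  let C : Subfield B :=
    { (Subalgebra.algebraicClosure R B).toSubring with
      inv_mem' := fun x hx => (IsAlgebraic.inv_iff).mpr hx }
  have hC : C = ⊤ := hgen C
    (by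
      rintro _ ⟨a, rfl⟩
      exact IsAlgebraic.ringHom_of_comp_eq φ c (Algebra.IsAlgebraic.isAlgebraic a) hφ (by ext; rfl))
    (by
      rintro _ ⟨a, rfl⟩
      exact isAlgebraic_algebraMap (⟨algebraMap k₁ B a, R.algebraMap_mem a⟩ : R))
  exact ⟨fun x => (hC ▸ Subfield.mem_top x : x ∈ C)⟩

instance flat_of_injective_field {R : Type u} [CommRing R] [IsDomain R] {B : Type u} [Field B]
    [Algebra R B] [FaithfulSMul R B] : Module.Flat R B := by
  letI := FractionRing.liftAlgebra R B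
  haveI := FractionRing.isScalarTower_liftAlgebra R B
  exact Module.Flat.trans R (FractionRing R) B

theorem comap_mem_minimalPrimes_of_flat {A B : Type u} [CommRing A] [CommRing B] [Algebra A B]
    [Module.Flat A B] {Q : Ideal B} (hQ : Q ∈ minimalPrimes B) :
    Q.comap (algebraMap A B) ∈ minimalPrimes A := by
  haveI : Algebra.HasGoingDown A B := Algebra.HasGoingDown.of_flat
  haveI : Q.IsPrime := hQ.1.1
  haveI : Q.LiesOver (Q.comap (algebraMap A B)) := ⟨rfl⟩
  refine ⟨⟨inferInstance, bot_le⟩, fun P' hP' hle => ?_⟩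
  haveI := hP'.1
  obtain ⟨Q', hQ'le, hQ'p, hQ'o⟩ := Ideal.exists_ideal_le_liesOver_of_le Q hle
  rw [hQ'o.over]
  exact Ideal.comap_mono (hQ.2 ⟨hQ'p, bot_le⟩ hQ'le)

theorem injective_aeval_fractionRing {R₀ L F : Type u} [CommRing R₀] [IsDomain R₀] [Field L] [Field F]
    [Algebra R₀ L] [IsFractionRing R₀ L] [Algebra R₀ F] [Algebra L F] [IsScalarTower R₀ L F]
    {σ : Type u} {x : σ → F} (h : AlgebraicIndependent R₀ x) : AlgebraicIndependent L x := by
  rw [algebraicIndependent_iff] at h ⊢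
  intro q hq
  letI : Algebra (MvPolynomial σ R₀) (MvPolynomial σ L) := MvPolynomial.algebraMvPolynomial
  haveI := MvPolynomial.isLocalization (σ := σ) (nonZeroDivisors R₀) L
  obtain ⟨⟨p, m⟩, hp⟩ := IsLocalization.surj ((nonZeroDivisors R₀).map (MvPolynomial.C (σ := σ))) q
  have hp0 : p = 0 := h p <| by
    rw [← MvPolynomial.aeval_map_algebraMap L x p, show MvPolynomial.map (algebraMap R₀ L) p =
      q * algebraMap _ _ (m : MvPolynomial σ R₀) from hp.symm, map_mul, hq, zero_mul]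
  rw [hp0, map_zero] at hp
  exact (IsLocalization.map_units (MvPolynomial σ L) m).mul_left_eq_zero.mp hp

theorem exists_lift {R A B F : Type u} [CommRing R] [CommRing A] [CommRing B] [CommRing F]
    [Algebra R A] [Algebra R B] (f : A →+* F) (g : B →+* F)
    (h : ∀ x, f (algebraMap R A x) = g (algebraMap R B x)) :
    ∃ φ : A ⊗[R] B →+* F, (∀ a, φ (a ⊗ₜ 1) = f a) ∧ ∀ b, φ (1 ⊗ₜ b) = g b := by
  letI : Algebra R F := (f.comp (algebraMap R A)).toAlgebra
  let f' : A →ₐ[R] F := { f with commutes' := fun _ => rfl }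
  let g' : B →ₐ[R] F := { g with commutes' := fun x => (h x).symm }
  refine ⟨(Algebra.TensorProduct.productMap f' g').toRingHom, fun a => ?_, fun b => ?_⟩
  · exact (Algebra.TensorProduct.productMap_apply_tmul f' g' a 1).trans (by rw [map_one, mul_one]; rfl)
  · exact (Algebra.TensorProduct.productMap_apply_tmul f' g' 1 b).trans (by rw [map_one, one_mul]; rfl)

/-- Variables are independent over the coefficients modulo a minimal prime of a polynomial ring. -/
theorem exists_coeff_field {C₀ R σ : Type u} [CommRing C₀] [CommRing R] [IsDomain R]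
    (θ : MvPolynomial σ C₀ →+* R) (hθ : RingHom.ker θ ∈ minimalPrimes (MvPolynomial σ C₀)) :
    ∃ (L : Type u) (_ : Field L) (_ : Algebra L (FractionRing R)),
      AlgebraicIndependent L (fun i => algebraMap R (FractionRing R) (θ (MvPolynomial.X i))) ∧
      ∀ a, algebraMap R (FractionRing R) (θ (MvPolynomial.C a)) ∈ Set.range (algebraMap L (FractionRing R)) := by
  let P₀ : Ideal C₀ := (RingHom.ker θ).comap MvPolynomial.C
  haveI : (RingHom.ker θ).IsPrime := hθ.1.1
  haveI hP₀ : P₀.IsPrime := Ideal.IsPrime.comap _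
  have hPeq : RingHom.ker θ = P₀.map MvPolynomial.C := by
    have hle : P₀.map MvPolynomial.C ≤ RingHom.ker θ := Ideal.map_comap_le
    refine le_antisymm (hθ.2 ⟨?_, bot_le⟩ hle) hle
    rw [← Ideal.Quotient.isDomain_iff_prime]
    exact MulEquiv.isDomain (MvPolynomial σ (C₀ ⧸ P₀))
      (MvPolynomial.quotientEquivQuotientMvPolynomial P₀).symm.toRingEquiv.toMulEquiv
  let v : C₀ ⧸ P₀ →+* R := Ideal.Quotient.lift P₀ (θ.comp MvPolynomial.C) fun a ha => ha
  have hv : Function.Injective v := by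
    refine (injective_iff_map_eq_zero v).mpr fun a ha => ?_
    obtain ⟨a, rfl⟩ := Ideal.Quotient.mk_surjective a
    have ha' : θ (MvPolynomial.C a) = 0 := ha
    exact Ideal.Quotient.eq_zero_iff_mem.mpr ha'
  let F := FractionRing R
  letI : Algebra (C₀ ⧸ P₀) F := ((algebraMap R F).comp v).toAlgebra
  haveI : FaithfulSMul (C₀ ⧸ P₀) F := (faithfulSMul_iff_algebraMap_injective _ _).mpr
    ((IsFractionRing.injective R F).comp hv)
  letI : Algebra (FractionRing (C₀ ⧸ P₀)) F := FractionRing.liftAlgebra (C₀ ⧸ P₀) F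
  haveI : IsScalarTower (C₀ ⧸ P₀) (FractionRing (C₀ ⧸ P₀)) F :=
    FractionRing.isScalarTower_liftAlgebra (C₀ ⧸ P₀) F
  refine ⟨FractionRing (C₀ ⧸ P₀), inferInstance, inferInstance,
    injective_aeval_fractionRing (R₀ := C₀ ⧸ P₀) ?_, fun a =>
      ⟨algebraMap (C₀ ⧸ P₀) _ (Ideal.Quotient.mk P₀ a), (IsScalarTower.algebraMap_apply (C₀ ⧸ P₀) _ F _).symm⟩⟩
  rw [algebraicIndependent_iff]
  intro p hp
  obtain ⟨q, rfl⟩ := MvPolynomial.map_surjective (Ideal.Quotient.mk P₀) Ideal.Quotient.mk_surjective p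
  have e : (MvPolynomial.aeval fun i => algebraMap R F (θ (MvPolynomial.X i))).toRingHom.comp
      (MvPolynomial.map (Ideal.Quotient.mk P₀)) = (algebraMap R F).comp θ := by
    refine MvPolynomial.ringHom_ext (fun a => ?_) fun i => ?_
    · simp only [RingHom.comp_apply, MvPolynomial.map_C, AlgHom.toRingHom_eq_coe, RingHom.coe_coe,
        MvPolynomial.aeval_C]
      rfl
    · simp
  have h2 : θ q = 0 := IsFractionRing.injective R F
    (((RingHom.congr_fun e q).symm.trans hp).trans (map_zero _).symm)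
  have h3 : q ∈ P₀.map MvPolynomial.C := hPeq ▸ h2
  refine MvPolynomial.ext _ _ fun n => ?_
  rw [MvPolynomial.coeff_map, MvPolynomial.coeff_zero]
  exact Ideal.Quotient.eq_zero_iff_mem.mpr (MvPolynomial.mem_map_C_iff.mp h3 n)

/-- Two field extensions `B₁/k₁`, `B₂/k₂` containing `K ⊇ k(t)` in which `t` stays independent map
to a common field in which `t` is independent over the compositum of `k₁` and `k₂`. -/
theorem exists_field_pair {k K k₁ k₂ B₁ B₂ : Type u} [Field k] [Field K] [Field k₁] [Field k₂]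
    [Field B₁] [Field B₂] [Algebra k K] [Algebra k k₁] [Algebra k k₂] [Algebra k₁ B₁] [Algebra k₂ B₂]
    (c₁ : K →+* B₁) (c₂ : K →+* B₂)
    (h₁ : c₁.comp (algebraMap k K) = (algebraMap k₁ B₁).comp (algebraMap k k₁))
    (h₂ : c₂.comp (algebraMap k K) = (algebraMap k₂ B₂).comp (algebraMap k k₂))
    {σ : Type u} (t : σ → K) (ht : IsTranscendenceBasis k t)
    (ht₁ : AlgebraicIndependent k₁ (c₁ ∘ t)) (ht₂ : AlgebraicIndependent k₂ (c₂ ∘ t)) :
    ∃ (F L : Type u) (_ : Field F) (_ : Field L) (_ : Algebra L F) (e₁ : B₁ →+* F) (e₂ : B₂ →+* F),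
      e₁.comp c₁ = e₂.comp c₂ ∧ AlgebraicIndependent L (e₁ ∘ c₁ ∘ t) ∧
      Set.range (e₁.comp (algebraMap k₁ B₁)) ⊆ Set.range (algebraMap L F) ∧
      Set.range (e₂.comp (algebraMap k₂ B₂)) ⊆ Set.range (algebraMap L F) := by
  let C₀ := k₁ ⊗[k] k₂
  let D := MvPolynomial σ C₀
  let i₁ : k₁ →+* C₀ := Algebra.TensorProduct.includeLeftRingHom
  let i₂ : k₂ →+* C₀ := (Algebra.TensorProduct.includeRight : k₂ →ₐ[k] C₀).toRingHom
  have hi : i₁.comp (algebraMap k k₁) = i₂.comp (algebraMap k k₂) :=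
    RingHom.ext fun r =>
      ((Algebra.TensorProduct.includeRight : k₂ →ₐ[k] C₀).commutes r).symm
  let j₁ : MvPolynomial σ k₁ →+* D := MvPolynomial.map i₁
  let j₂ : MvPolynomial σ k₂ →+* D := MvPolynomial.map i₂
  letI : Algebra (MvPolynomial σ k₁) D := j₁.toAlgebra
  letI : Algebra (MvPolynomial σ k₁) B₁ := (MvPolynomial.aeval (c₁ ∘ t)).toRingHom.toAlgebra
  letI : Algebra (MvPolynomial σ k₂) B₂ := (MvPolynomial.aeval (c₂ ∘ t)).toRingHom.toAlgebra
  haveI : FaithfulSMul (MvPolynomial σ k₁) B₁ := (faithfulSMul_iff_algebraMap_injective _ _).mpr ht₁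
  haveI : FaithfulSMul (MvPolynomial σ k₂) B₂ := (faithfulSMul_iff_algebraMap_injective _ _).mpr ht₂
  let Z := D ⊗[MvPolynomial σ k₁] B₁
  letI : Algebra (MvPolynomial σ k₂) Z := ((algebraMap D Z).comp j₂).toAlgebra
  let Y := Z ⊗[MvPolynomial σ k₂] B₂
  let z₁ : B₁ →+* Z :=
    (Algebra.TensorProduct.includeRight : B₁ →ₐ[MvPolynomial σ k₁] Z).toRingHom
  let y₀ : Z →+* Y := Algebra.TensorProduct.includeLeftRingHom
  let y₁ : B₁ →+* Y := y₀.comp z₁
  let y₂ : B₂ →+* Y :=
    (Algebra.TensorProduct.includeRight : B₂ →ₐ[MvPolynomial σ k₂] Y).toRingHom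
  let yD : D →+* Y := y₀.comp (algebraMap D Z)
  have hy₁ : ∀ q : MvPolynomial σ k₁, y₁ (MvPolynomial.aeval (c₁ ∘ t) q) = yD (j₁ q) := fun q =>
    congrArg y₀ ((Algebra.TensorProduct.includeRight : B₁ →ₐ[MvPolynomial σ k₁] Z).commutes q)
  have hy₂ : ∀ q : MvPolynomial σ k₂, y₂ (MvPolynomial.aeval (c₂ ∘ t) q) = yD (j₂ q) := fun q =>
    (Algebra.TensorProduct.includeRight : B₂ →ₐ[MvPolynomial σ k₂] Y).commutes q
  -- a point of `Y` coming from `B₁ ⊗_K B₂`
  letI : Algebra K B₁ := c₁.toAlgebra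
  letI : Algebra K B₂ := c₂.toAlgebra
  obtain ⟨m, hm⟩ := Ideal.exists_maximal (B₁ ⊗[K] B₂)
  let F₀ := (B₁ ⊗[K] B₂) ⧸ m
  letI : Field F₀ := Ideal.Quotient.field m
  let u₁ : B₁ →+* F₀ := (Ideal.Quotient.mk m).comp Algebra.TensorProduct.includeLeftRingHom
  let u₂ : B₂ →+* F₀ := (Ideal.Quotient.mk m).comp
    (Algebra.TensorProduct.includeRight : B₂ →ₐ[K] B₁ ⊗[K] B₂).toRingHom
  have hu : ∀ x, u₁ (c₁ x) = u₂ (c₂ x) := fun x => congrArg (Ideal.Quotient.mk m)
    ((Algebra.TensorProduct.includeRight : B₂ →ₐ[K] B₁ ⊗[K] B₂).commutes x).symm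
  obtain ⟨fC, hfC₁, hfC₂⟩ : ∃ φ : C₀ →+* F₀, (∀ a, φ (i₁ a) = u₁ (algebraMap k₁ B₁ a)) ∧
      ∀ a, φ (i₂ a) = u₂ (algebraMap k₂ B₂ a) :=
    exists_lift (u₁.comp (algebraMap k₁ B₁)) (u₂.comp (algebraMap k₂ B₂)) fun a =>
      ((congrArg u₁ (RingHom.congr_fun h₁ a)).symm.trans (hu _)).trans (congrArg u₂ (RingHom.congr_fun h₂ a))
  let fD : D →+* F₀ := MvPolynomial.eval₂Hom fC fun i => u₁ (c₁ (t i))
  have hfD₁ : ∀ q, fD (j₁ q) = u₁ (MvPolynomial.aeval (c₁ ∘ t) q) := fun q => by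
    refine RingHom.congr_fun (?_ : fD.comp j₁ = u₁.comp (MvPolynomial.aeval (c₁ ∘ t)).toRingHom) q
    refine MvPolynomial.ringHom_ext (fun r => ?_) fun i => ?_
    · have e : j₁ (MvPolynomial.C r) = MvPolynomial.C (i₁ r) := MvPolynomial.map_C i₁ r
      show fD (j₁ (MvPolynomial.C r)) = u₁ (MvPolynomial.aeval (c₁ ∘ t) (MvPolynomial.C r))
      rw [e, MvPolynomial.aeval_C]
      exact (MvPolynomial.eval₂Hom_C _ _ _).trans (hfC₁ r)
    · have e : j₁ (MvPolynomial.X i) = MvPolynomial.X i := MvPolynomial.map_X i₁ i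
      show fD (j₁ (MvPolynomial.X i)) = u₁ (MvPolynomial.aeval (c₁ ∘ t) (MvPolynomial.X i))
      rw [e, MvPolynomial.aeval_X]
      exact MvPolynomial.eval₂Hom_X' _ _ _
  have hfD₂ : ∀ q, fD (j₂ q) = u₂ (MvPolynomial.aeval (c₂ ∘ t) q) := fun q => by
    refine RingHom.congr_fun (?_ : fD.comp j₂ = u₂.comp (MvPolynomial.aeval (c₂ ∘ t)).toRingHom) q
    refine MvPolynomial.ringHom_ext (fun r => ?_) fun i => ?_
    · have e : j₂ (MvPolynomial.C r) = MvPolynomial.C (i₂ r) := MvPolynomial.map_C i₂ r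
      show fD (j₂ (MvPolynomial.C r)) = u₂ (MvPolynomial.aeval (c₂ ∘ t) (MvPolynomial.C r))
      rw [e, MvPolynomial.aeval_C]
      exact (MvPolynomial.eval₂Hom_C _ _ _).trans (hfC₂ r)
    · have e : j₂ (MvPolynomial.X i) = MvPolynomial.X i := MvPolynomial.map_X i₂ i
      show fD (j₂ (MvPolynomial.X i)) = u₂ (MvPolynomial.aeval (c₂ ∘ t) (MvPolynomial.X i))
      rw [e, MvPolynomial.aeval_X]
      exact (MvPolynomial.eval₂Hom_X' _ _ _).trans (hu _)
  obtain ⟨fZ, hfZ₁, hfZ₂⟩ := exists_lift (R := MvPolynomial σ k₁) fD u₁ hfD₁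
  obtain ⟨fY, hfY₁, hfY₂⟩ := exists_lift (R := MvPolynomial σ k₂) fZ u₂
    fun q => (hfZ₁ (j₂ q)).trans (hfD₂ q)
  have hfy₁ : fY.comp y₁ = u₁ := RingHom.ext fun b => (hfY₁ (z₁ b)).trans (hfZ₂ b)
  have hfy₂ : fY.comp y₂ = u₂ := RingHom.ext fun b => hfY₂ b
  haveI : (RingHom.ker fY).IsPrime := RingHom.ker_isPrime fY
  obtain ⟨Q, hQ, hQle⟩ := Ideal.exists_minimalPrimes_le (bot_le : ⊥ ≤ RingHom.ker fY)
  haveI : Q.IsPrime := hQ.1.1
  let R := Y ⧸ Q
  let r : Y →+* R := Ideal.Quotient.mk Q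
  let g : R →+* F₀ := Ideal.Quotient.lift Q fY fun a ha => hQle ha
  -- the two embeddings of `K` agree at `Q`
  let π : MvPolynomial σ k →+* R := (r.comp (y₁.comp c₁)).comp (MvPolynomial.aeval t).toRingHom
  have hπ : ∀ q, r (y₂ (c₂ (MvPolynomial.aeval t q))) = π q := fun q => by
    refine RingHom.congr_fun (?_ : (r.comp (y₂.comp c₂)).comp (MvPolynomial.aeval t).toRingHom = π) q
    refine MvPolynomial.ringHom_ext (fun a => ?_) fun i => ?_
    · have e₁ := hy₁ (MvPolynomial.C (algebraMap k k₁ a))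
      have e₂ := hy₂ (MvPolynomial.C (algebraMap k k₂ a))
      rw [MvPolynomial.aeval_C, show j₁ (MvPolynomial.C (algebraMap k k₁ a)) = _ from MvPolynomial.map_C i₁ _] at e₁
      rw [MvPolynomial.aeval_C, show j₂ (MvPolynomial.C (algebraMap k k₂ a)) = _ from MvPolynomial.map_C i₂ _] at e₂
      show r (y₂ (c₂ (MvPolynomial.aeval t (MvPolynomial.C a)))) =
        r (y₁ (c₁ (MvPolynomial.aeval t (MvPolynomial.C a))))
      rw [MvPolynomial.aeval_C, show c₂ (algebraMap k K a) = _ from RingHom.congr_fun h₂ a,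
        show c₁ (algebraMap k K a) = _ from RingHom.congr_fun h₁ a]
      refine congrArg r (e₂.trans (Eq.trans ?_ e₁.symm))
      rw [show i₂ (algebraMap k k₂ a) = i₁ (algebraMap k k₁ a) from (RingHom.congr_fun hi a).symm]
    · have e₁ := hy₁ (MvPolynomial.X i)
      have e₂ := hy₂ (MvPolynomial.X i)
      rw [MvPolynomial.aeval_X, show j₁ (MvPolynomial.X i) = _ from MvPolynomial.map_X i₁ i] at e₁
      rw [MvPolynomial.aeval_X, show j₂ (MvPolynomial.X i) = _ from MvPolynomial.map_X i₂ i] at e₂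
      show r (y₂ (c₂ (MvPolynomial.aeval t (MvPolynomial.X i)))) =
        r (y₁ (c₁ (MvPolynomial.aeval t (MvPolynomial.X i))))
      rw [MvPolynomial.aeval_X]
      exact congrArg r (e₂.trans e₁.symm)
  have hgπ : ∀ q, g (π q) = u₁ (c₁ (MvPolynomial.aeval t q)) := fun q =>
    RingHom.congr_fun hfy₁ _
  have hK : ∀ x, r (y₁ (c₁ x)) = r (y₂ (c₂ x)) := fun x => by
    letI : Algebra (MvPolynomial σ k) K := (MvPolynomial.aeval t).toRingHom.toAlgebra
    letI : Algebra (MvPolynomial σ k) R := π.toAlgebra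
    haveI := ht.isAlgebraic
    have hx : IsAlgebraic (MvPolynomial σ k) x :=
      IsAlgebraic.ringHom_of_comp_eq (ht.1.aevalEquiv.symm.toRingEquiv.toRingHom) (RingHom.id K)
        (Algebra.IsAlgebraic.isAlgebraic (R := Algebra.adjoin k (Set.range t)) x)
        ht.1.aevalEquiv.symm.injective
        (RingHom.ext fun a => by
          show MvPolynomial.aeval t (ht.1.aevalEquiv.symm a) = (a : K)
          rw [← ht.1.algebraMap_aevalEquiv, AlgEquiv.apply_symm_apply]
          rfl)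
    have a₁ := hx.algHom ({ r.comp (y₁.comp c₁) with commutes' := fun q => rfl } : K →ₐ[MvPolynomial σ k] R)
    have a₂ := hx.algHom ({ r.comp (y₂.comp c₂) with commutes' := hπ } : K →ₐ[MvPolynomial σ k] R)
    by_contra hne
    obtain ⟨ρ, hρ, w, hw⟩ := (a₁.sub a₂).exists_nonzero_dvd
      (mem_nonZeroDivisors_of_ne_zero (sub_ne_zero.mpr hne))
    refine hρ (ht.1.eq_zero_of_aeval_eq_zero ρ ((u₁.comp c₁).injective ?_))
    rw [map_zero]
    refine (hgπ ρ).symm.trans ?_
    rw [show π ρ = _ from hw, map_mul]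
    have h0 : g (r (y₁ (c₁ x)) - r (y₂ (c₂ x))) = 0 := by
      rw [map_sub, sub_eq_zero]
      exact (RingHom.congr_fun hfy₁ _).trans ((hu x).trans (RingHom.congr_fun hfy₂ _).symm)
    exact mul_eq_zero_of_left h0 _
  -- the prime of `D` below `Q`
  let θ : D →+* R := r.comp yD
  have hθ : RingHom.ker θ ∈ minimalPrimes D := by
    have h1 : Q.comap (algebraMap Z Y) ∈ minimalPrimes Z :=
      comap_mem_minimalPrimes_of_flat (A := Z) (Q := Q) hQ
    have h2 : (Q.comap (algebraMap Z Y)).comap (algebraMap D Z) ∈ minimalPrimes D :=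
      comap_mem_minimalPrimes_of_flat (A := D) (B := Z) h1
    convert h2 using 1
    ext q
    exact Ideal.Quotient.eq_zero_iff_mem
  obtain ⟨L, _, _, hind, hL⟩ := exists_coeff_field θ hθ
  refine ⟨FractionRing R, L, inferInstance, inferInstance, inferInstance,
    (algebraMap R _).comp (r.comp y₁), (algebraMap R _).comp (r.comp y₂),
    RingHom.ext fun x => congrArg (algebraMap R _) (hK x), ?_, ?_, ?_⟩
  · convert hind using 1
    funext i
    refine congrArg (fun a => algebraMap R (FractionRing R) (r a)) ?_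
    have e : j₁ (MvPolynomial.X i) = MvPolynomial.X i := MvPolynomial.map_X i₁ i
    rw [← e, ← hy₁, MvPolynomial.aeval_X]
    rfl
  · rintro _ ⟨a, rfl⟩
    have e : j₁ (MvPolynomial.C a) = MvPolynomial.C (i₁ a) := MvPolynomial.map_C i₁ a
    have e' := hy₁ (MvPolynomial.C a)
    rw [e, MvPolynomial.aeval_C] at e'
    show algebraMap R _ (r (y₁ (algebraMap k₁ B₁ a))) ∈ _
    rw [e']; exact hL _
  · rintro _ ⟨a, rfl⟩
    have e : j₂ (MvPolynomial.C a) = MvPolynomial.C (i₂ a) := MvPolynomial.map_C i₂ a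
    have e' := hy₂ (MvPolynomial.C a)
    rw [e, MvPolynomial.aeval_C] at e'
    show algebraMap R _ (r (y₂ (algebraMap k₂ B₂ a))) ∈ _
    rw [e']; exact hL _

end Groth.Agent.TrdegPairLib
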