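import Mathlib
import Groth.Agent.TrdegPairLib.Core

/-!
# Morphisms from spectra of fields
-/

set_option autoImplicit false
set_option backward.isDefEq.respectTransparency false
set_option backward.isDefEq.respectTransparency.types false
set_option linter.style.haveILetI false

universe u

open CategoryTheory CategoryTheory.Limits AlgebraicGeometry

namespace Groth.Agent.TrdegPairLib

variable {X S : Scheme.{u}}

theorem point_comp {F : Type u} [Field F] {A : Scheme.{u}} (m : Spec (CommRingCat.of F) ⟶ A) (g : A ⟶ X)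
    (z : Spec (CommRingCat.of F)) : (m ≫ g).base z = g.base (m.base z) := rfl

theorem exists_desc {F : Type u} [Field F] (m : Spec (CommRingCat.of F) ⟶ X) (x : X)
    (hx : ∀ z, m.base z = x) :
    ∃ φ : X.residueField x →+* F, Spec.map (CommRingCat.ofHom φ) ≫ X.fromSpecResidueField x = m := by
  obtain rfl := hx (IsLocalRing.closedPoint F)
  exact ⟨(Scheme.descResidueField (Scheme.stalkClosedPointTo m)).hom,
    Scheme.descResidueField_stalkClosedPointTo_fromSpecResidueField F X m⟩

theorem hom_ext_of_eq {F : Type u} [Field F] {x : X} (φ ψ : X.residueField x →+* F)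
    (h : Spec.map (CommRingCat.ofHom φ) ≫ X.fromSpecResidueField x =
      Spec.map (CommRingCat.ofHom ψ) ≫ X.fromSpecResidueField x) : φ = ψ := by
  rw [cancel_mono, Spec.map_inj] at h
  exact congrArg CommRingCat.Hom.hom h

/-- Morphisms from the spectrum of a field agree if they agree after a field extension. -/
theorem ext_of_field {C B : Type u} [Field C] [Field B] (ι : C →+* B) (m m' : Spec (CommRingCat.of C) ⟶ X)
    (h : Spec.map (CommRingCat.ofHom ι) ≫ m = Spec.map (CommRingCat.ofHom ι) ≫ m') : m = m' := by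
  let z₀ : Spec (CommRingCat.of B) := IsLocalRing.closedPoint B
  haveI : Subsingleton (Spec (CommRingCat.of C)) := inferInstanceAs (Subsingleton (PrimeSpectrum C))
  have hpt : ∀ z, m'.base z = m.base (IsLocalRing.closedPoint C) := fun z => by
    have := congr($(h).base z₀)
    simp only [point_comp] at this
    rw [Subsingleton.elim z ((Spec.map (CommRingCat.ofHom ι)).base z₀),
      Subsingleton.elim (IsLocalRing.closedPoint C) ((Spec.map (CommRingCat.ofHom ι)).base z₀)]
    exact this.symm
  obtain ⟨φ, hφ⟩ := exists_desc m _ (fun z => congrArg m.base (Subsingleton.elim z (IsLocalRing.closedPoint C)))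
  obtain ⟨φ', hφ'⟩ := exists_desc m' _ hpt
  rw [← hφ, ← hφ', ← Category.assoc, ← Category.assoc, ← Spec.map_comp, ← Spec.map_comp,
    cancel_mono, Spec.map_inj] at h
  rw [← hφ, ← hφ', show φ = φ' from RingHom.ext fun a => ι.injective (RingHom.congr_fun (congrArg CommRingCat.Hom.hom h) a)]

/-- The residue field at a point of a fibre product is generated by those of its images. -/
theorem generated {X' S' : Scheme.{u}} {f : X ⟶ S} {g : S' ⟶ S} {f' : X' ⟶ S'} {g' : X' ⟶ X}
    (h : IsPullback g' f' f g) (y : X') {K k' : Type u} [Field K] [Field k']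
    (φ₁ : K →+* X'.residueField y) (φ₂ : k' →+* X'.residueField y)
    (mX : Spec (CommRingCat.of K) ⟶ X) (mS : Spec (CommRingCat.of k') ⟶ S')
    (e₁ : Spec.map (CommRingCat.ofHom φ₁) ≫ mX = X'.fromSpecResidueField y ≫ g')
    (e₂ : Spec.map (CommRingCat.ofHom φ₂) ≫ mS = X'.fromSpecResidueField y ≫ f')
    (C : Subfield (X'.residueField y)) (h₁ : Set.range φ₁ ⊆ C) (h₂ : Set.range φ₂ ⊆ C) : C = ⊤ := by
  let ψ₁ : K →+* C := φ₁.codRestrict C fun a => h₁ ⟨a, rfl⟩
  let ψ₂ : k' →+* C := φ₂.codRestrict C fun a => h₂ ⟨a, rfl⟩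
  have hψ₁ : Spec.map (CommRingCat.ofHom C.subtype) ≫ Spec.map (CommRingCat.ofHom ψ₁) =
      Spec.map (CommRingCat.ofHom φ₁) := by
    rw [← Spec.map_comp]; rfl
  have hψ₂ : Spec.map (CommRingCat.ofHom C.subtype) ≫ Spec.map (CommRingCat.ofHom ψ₂) =
      Spec.map (CommRingCat.ofHom φ₂) := by
    rw [← Spec.map_comp]; rfl
  have hc : (Spec.map (CommRingCat.ofHom ψ₁) ≫ mX) ≫ f = (Spec.map (CommRingCat.ofHom ψ₂) ≫ mS) ≫ g := by
    refine ext_of_field C.subtype _ _ ?_
    simp only [← Category.assoc]
    rw [hψ₁, hψ₂, e₁, e₂, Category.assoc, Category.assoc, h.w]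
  let w := h.lift (Spec.map (CommRingCat.ofHom ψ₁) ≫ mX) (Spec.map (CommRingCat.ofHom ψ₂) ≫ mS) hc
  have hw : Spec.map (CommRingCat.ofHom C.subtype) ≫ w = X'.fromSpecResidueField y := by
    refine h.hom_ext ?_ ?_
    · rw [Category.assoc, h.lift_fst, ← Category.assoc, hψ₁, e₁]
    · rw [Category.assoc, h.lift_snd, ← Category.assoc, hψ₂, e₂]
  haveI : Subsingleton (Spec (CommRingCat.of C)) := inferInstanceAs (Subsingleton (PrimeSpectrum C))
  have hwy : ∀ z, w.base z = y := fun z => by
    let z₀ : Spec (X'.residueField y) := IsLocalRing.closedPoint _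
    have := congr($(hw).base z₀)
    rw [Scheme.fromSpecResidueField_apply] at this
    rw [Subsingleton.elim z ((Spec.map (CommRingCat.ofHom C.subtype)).base z₀)]
    exact this
  obtain ⟨ψ, hψ⟩ := exists_desc w y hwy
  have hid : C.subtype.comp ψ = RingHom.id _ := by
    rw [← hψ, ← Category.assoc, ← Spec.map_comp] at hw
    have h' := hw.trans (Category.id_comp (X'.fromSpecResidueField y)).symm
    rw [cancel_mono, ← Spec.map_id, Spec.map_inj] at h'
    exact congrArg CommRingCat.Hom.hom h'
  refine eq_top_iff.mpr fun a _ => ?_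
  have h := RingHom.congr_fun hid a
  exact (show ((ψ a : C) : X'.residueField y) = a from h) ▸ (ψ a).2

end Groth.Agent.TrdegPairLib
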